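import Cfsg.Agent.Lib.Linear.Transvection

/-!
Generation of `SL_{n+1}` from one root subgroup `X₀₁` and a monomial element permuting the coordinates cyclically.
-/

namespace CfsgLib.SLGen

open Matrix
open scoped MatrixGroups commutatorElement

variable {n : ℕ} {K : Type*} [Field K]

/-- The elementary transvection of `SL_{n+1}`. -/
abbrev tv {i j : Fin (n + 1)} (h : i ≠ j) (c : K) : SL(n + 1, K) :=
  Matrix.SpecialLinearGroup.transvection h c

theorem tv_congr {i j i' j' : Fin (n + 1)} (hi : i = i') (hj : j = j') (h : i ≠ j) (h' : i' ≠ j') (c : K) :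
    tv h c = tv h' c := by
  subst hi hj
  rfl

theorem diag_conj_tv (D : SL(n + 1, K)) (d : Fin (n + 1) → K)
    (hD : (D : Matrix (Fin (n + 1)) (Fin (n + 1)) K) = diagonal d) {i j : Fin (n + 1)} (h : i ≠ j) (c : K) :
    D * tv h c * D⁻¹ = tv h (d i * c / d j) := by
  have hd : d j ≠ 0 := by
    intro h0
    have h1 := D.det_coe
    rw [hD, det_diagonal, Finset.prod_eq_zero (Finset.mem_univ j) h0] at h1
    exact zero_ne_one h1
  rw [mul_inv_eq_iff_eq_mul]
  ext a b
  rw [Matrix.SpecialLinearGroup.coe_mul, Matrix.SpecialLinearGroup.coe_mul,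
    Matrix.SpecialLinearGroup.transvection_coe, Matrix.SpecialLinearGroup.transvection_coe, hD,
    diagonal_mul, mul_diagonal]
  by_cases hab : i = a ∧ j = b
  · obtain ⟨rfl, rfl⟩ := hab
    simp [h]
    field_simp
  · rw [Matrix.add_apply, Matrix.add_apply, single_apply, single_apply, if_neg hab, if_neg hab]
    by_cases hab' : a = b
    · subst hab'
      simp
    · simp [hab']

theorem monomial_conj_tv (w : SL(n + 1, K)) (s : Fin (n + 1) → K) (hs : ∀ a, s a ≠ 0)
    (hw : (w : Matrix (Fin (n + 1)) (Fin (n + 1)) K) = Matrix.of fun a b => if b = a + 1 then s a else 0)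
    {i j : Fin (n + 1)} (h : i ≠ j) (h' : i - 1 ≠ j - 1) (c : K) :
    w * tv h c * w⁻¹ = tv h' (s (i - 1) * c / s (j - 1)) := by
  rw [mul_inv_eq_iff_eq_mul]
  ext a b
  rw [Matrix.SpecialLinearGroup.coe_mul, Matrix.SpecialLinearGroup.coe_mul,
    Matrix.SpecialLinearGroup.transvection_coe, Matrix.SpecialLinearGroup.transvection_coe, hw,
    Matrix.mul_apply, Matrix.mul_apply, Finset.sum_eq_single (a + 1), Finset.sum_eq_single (b - 1)]
  · simp only [Matrix.of_apply, if_true, sub_add_cancel, Matrix.add_apply, Matrix.single_apply,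
      Matrix.one_apply, eq_sub_iff_add_eq, sub_eq_iff_eq_add]
    by_cases hab : i = a + 1 ∧ j = b
    · obtain ⟨rfl, rfl⟩ := hab
      have := hs (j - 1)
      simp [h]
      field_simp
    · simp only [if_neg hab, add_zero]
      by_cases hab' : a + 1 = b
      · subst hab'
        simp
      · simp [hab']
  · intro x _ hx
    simp only [Matrix.of_apply]
    rw [if_neg fun he => hx (by rw [he, add_sub_cancel_right]), mul_zero]
  · simp
  · intro x _ hx
    simp only [Matrix.of_apply]
    rw [if_neg hx, zero_mul]
  · simp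

/-- `X₀₁` and the monomial element generate `SL_{n+1}`. -/
theorem eq_top_of_mem (H : Subgroup SL(n + 1, K)) (w : SL(n + 1, K)) (hwH : w ∈ H)
    (s : Fin (n + 1) → K) (hs : ∀ a, s a ≠ 0)
    (hw : (w : Matrix (Fin (n + 1)) (Fin (n + 1)) K) = Matrix.of fun a b => if b = a + 1 then s a else 0)
    (h01 : (0 : Fin (n + 1)) ≠ 1) (hX : ∀ c : K, tv h01 c ∈ H) : H = ⊤ := by
  have hadj : ∀ m : Fin (n + 1), ∀ (h : -m ≠ -m + 1) (c : K), tv h c ∈ H := by
    intro m
    induction m using Fin.induction with
    | zero =>
      intro h c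
      rw [tv_congr (by simp) (by simp) h h01]
      exact hX c
    | succ m ih =>
      intro h c
      have h0 : -m.castSucc ≠ -m.castSucc + 1 := fun he => h01 (add_left_cancel (a := -m.castSucc) (by rw [add_zero]; exact he))
      have h' : -m.castSucc - 1 ≠ -m.castSucc + 1 - 1 := fun he => h0 (sub_left_injective he)
      have e := monomial_conj_tv w s hs hw h0 h'
        (c * s (-m.castSucc + 1 - 1) / s (-m.castSucc - 1))
      have hm : -m.succ = -m.castSucc - 1 := by
        rw [← Fin.coeSucc_eq_succ]
        abel
      rw [tv_congr (c := c) hm (by rw [hm]; abel) h h']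
      have e2 : s (-m.castSucc - 1) * (c * s (-m.castSucc + 1 - 1) / s (-m.castSucc - 1)) /
          s (-m.castSucc + 1 - 1) = c := by
        have := hs (-m.castSucc - 1)
        have := hs (-m.castSucc + 1 - 1)
        field_simp
      rw [e2] at e
      rw [← e]
      exact mul_mem (mul_mem hwH (ih h0 _)) (inv_mem hwH)
  have hall : ∀ k : Fin (n + 1), ∀ (a : Fin (n + 1)) (h : a ≠ a + k) (c : K), tv h c ∈ H := by
    intro k
    induction k using Fin.induction with
    | zero => intro a h; simp at h
    | succ k ih =>
      intro a h c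
      have hk : k.succ = k.castSucc + 1 := (Fin.coeSucc_eq_succ).symm
      by_cases hk0 : k.castSucc = 0
      · have ha : -(-a) = a := neg_neg a
        have h' : -(-a) ≠ -(-a) + 1 := by rw [ha]; rwa [hk, hk0, zero_add] at h
        rw [tv_congr ha.symm (by rw [ha, hk, hk0, zero_add]) h h']
        exact hadj (-a) h' c
      · have h1 : a ≠ a + k.castSucc := fun he => hk0 (left_eq_add.1 he)
        have h2 : a + k.castSucc ≠ a + k.succ := fun he => h01 (by
          rw [hk, ← add_assoc] at he
          exact (left_eq_add.1 he).symm)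
        have h3 : -(-(a + k.castSucc)) ≠ -(-(a + k.castSucc)) + 1 := by
          simp only [neg_neg]
          intro he
          exact h01 (left_eq_add.1 he).symm
        have hmem := hadj (-(a + k.castSucc)) h3 1
        rw [tv_congr (neg_neg _) (by rw [neg_neg, hk, add_assoc]) h3 h2] at hmem
        have e := CfsgLib.Linear.commutator_transvection_transvection (F := K) h h1 h2 c 1
        rw [mul_one] at e
        change ⁅tv h1 c, tv h2 1⁆ = tv h c at e
        rw [← e, commutatorElement_def]
        exact mul_mem (mul_mem (mul_mem (ih a h1 c) hmem) (inv_mem (ih a h1 c))) (inv_mem hmem)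
  refine CfsgLib.Linear.SL_eq_top_of_transvection_mem H fun i j hij c => ?_
  have h : i ≠ i + (j - i) := by rwa [add_sub_cancel]
  have e : tv h c = tv hij c := tv_congr rfl (add_sub_cancel _ _) h hij c
  rw [show Matrix.SpecialLinearGroup.transvection hij c = tv hij c from rfl, ← e]
  exact hall (j - i) i h c

/-- Rewriting the monomial matrix of the statements cyclically. -/
theorem monomial_matrix_eq :
    (Matrix.of fun i j : Fin (n + 1) =>
      if j.val = i.val + 1 then (1 : K) else if i.val = n ∧ j.val = 0 then (-1) ^ n else 0) =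
    Matrix.of fun a b => if b = a + 1 then (if a.val = n then (-1) ^ n else 1) else 0 := by
  ext a b
  have hb := b.2
  have ha := a.2
  simp only [Matrix.of_apply, Fin.ext_iff, Fin.val_add_one, Fin.val_last]
  by_cases h : a.val = n
  · simp only [h, if_true, true_and]
    by_cases h2 : b.val = n + 1
    · omega
    · simp [h2]
  · simp only [h, if_false, false_and]

end CfsgLib.SLGen
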